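import Cfsg.Agent.HK.Defs
import Cfsg.Agent.HN.CentB
import Cfsg.Agent.HN.Fusion2
import Cfsg.Agent.HN.Restrict

/-! The Harada–Norton tower modulo a normal subgroup of odd order. -/

set_option autoImplicit false

namespace Cfsg.Lib.HK

open Subgroup Cfsg.Lib.HN

theorem exists_qf' {Γ : Type*} [Group Γ] [Finite Γ] (t : Γ) (ht : orderOf t = 2)
    (M : Subgroup (centralizer ({t} : Set Γ))) (hM : M.index = 2)
    (hout : centralizer (M : Set (centralizer ({t} : Set Γ))) ≤ M)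
    (hcov : Cfsg.IsNonsplitDoubleCover M Cfsg.Spor.HS) {s : Γ} (hs : s ≠ t) (hc : Commute s t)
    (h : IsConj t s) : ∃ (D : HSD Γ) (x0 : Γ), D.t = t ∧ D.QF x0 := by
  obtain ⟨P, _, D, hT⟩ := exists_model_top
  have hmem : ∀ a, a ∈ D.C := fun a => hT ▸ mem_top a
  have : Finite P := Finite.of_surjective (fun a : D.C => a.1) fun a => ⟨⟨a, hmem a⟩, rfl⟩
  have i1 : D.M.index = 2 := by
    have := D.idx
    rwa [hT, ← relIndex, relIndex_top_right] at this
  obtain ⟨e, τ, h1, h2, h3, h4, h5⟩ := iso_twist D.M M i1 hM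
    (fun a ha => D.cent_M (hmem a) fun x hx => (ha x hx).symm) hout D.cov hcov
  have t2 : t * t = 1 := by rw [← pow_two, ← ht, pow_orderOf_eq_one]
  have t1 : t ≠ 1 := fun h => by rw [h, orderOf_one] at ht; omega
  let t' : centralizer ({t} : Set Γ) := ⟨t, mem_centralizer_singleton_iff.2 rfl⟩
  have tc : ∀ x, Commute t' x := fun x =>
    Subtype.ext (mem_centralizer_singleton_iff.1 x.2).symm
  have hc' := dc_center M hout hcov t' (hout fun x _ => (tc x).symm) (fun h => t1 (congrArg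
    Subtype.val h)) fun x _ => tc x
  have e1 : e 1 = 1 := by
    have := h5 1 1
    simpa using this
  have et : e D.t = t' := (hc' (e D.t) fun x _ => by
    obtain ⟨p, rfl⟩ := e.surjective x
    change _ * _ = _ * _
    rw [h5, h5, (D.cent p (hmem p)).eq]
    simp [D.t_M]).resolve_left fun h => D.rel.t1 (e.injective (h.trans e1.symm))
  have T : Tw D (fun p => (e p : Γ)) τ := by
    refine ⟨hT, Subtype.val_injective.comp e.injective, fun a => ?_, ?_, fun a b => ?_⟩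
    · simp only [et]
      exact ⟨fun h => ⟨e.symm ⟨a, mem_centralizer_singleton_iff.2 h⟩, by simp⟩,
        fun ⟨p, h⟩ => h ▸ mem_centralizer_singleton_iff.1 (e p).2⟩
    · simp only [et]
      exact (hc' τ fun x _ => (mem_center_iff.1 h2 x).symm).imp (congrArg Subtype.val)
        (congrArg Subtype.val)
    · have := congrArg Subtype.val (h5 a b)
      split_ifs at this ⊢ <;> exact this
  have et' : (e D.t : Γ) = t := congrArg Subtype.val et
  obtain ⟨D', k1, k2⟩ := T.exists_fus (s := s) (by simpa only [et'] using hs)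
    (by simpa only [et'] using hc) (by simpa only [et'] using h)
  obtain ⟨x0, k3⟩ := k2.exists_qf
  exact ⟨D', x0, k1.trans et', k3⟩

namespace Lift

variable {G Γ : Type*} [Group G] [Group Γ] {π : G →* Γ}

theorem pow_card {a : G} (h : π a = 1) : a ^ Nat.card π.ker = 1 :=
  congrArg Subtype.val (pow_card_eq_one' (x := (⟨a, h⟩ : π.ker)))

theorem four {a : G} (h : a * a = 1) : a ^ 4 = 1 := by
  rw [show 4 = 2 * 2 from rfl, pow_mul, pow_two a, h, one_pow]

theorem eq_one (hodd : Odd (Nat.card π.ker)) {a : G} (h : π a = 1) (h4 : a ^ 4 = 1) : a = 1 :=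
  orderOf_eq_one_iff.1 (Nat.eq_one_of_dvd_coprimes (hodd.coprime_two_right.pow_right 2)
    (orderOf_dvd_of_pow_eq_one (pow_card h)) (orderOf_dvd_of_pow_eq_one h4))

theorem uniq (hodd : Odd (Nat.card π.ker)) {a b : G} (ha : a ∈ centralizer (π.ker : Set G))
    (e : π a = π b) (h1 : a ^ 4 = 1) (h2 : b ^ 4 = 1) : a = b := by
  have h : π (a⁻¹ * b) = 1 := by simp [e]
  refine inv_mul_eq_one.1 (eq_one hodd h ?_)
  have := (show Commute a (a⁻¹ * b) from (ha _ h).symm).mul_pow 4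
  rwa [mul_inv_cancel_left, h1, h2, one_mul, eq_comm] at this

theorem conj (hodd : Odd (Nat.card π.ker)) (hπ : Function.Surjective π) {a b : G} (ha : a * a = 1)
    (hb : b * b = 1) (h : IsConj (π a) (π b)) : IsConj a b := by
  obtain ⟨c, e⟩ := isConj_iff.1 h
  obtain ⟨c, rfl⟩ := hπ c
  refine (HSD.isConj_conj c a).trans ?_
  have ha' := HSD.isConj_sq (HSD.isConj_conj c a) ha
  rw [← map_inv, ← map_mul, ← map_mul] at e
  generalize c * a * c⁻¹ = a at ha' e
  obtain ⟨j, hj⟩ := hodd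
  refine isConj_iff.2 ⟨_, (Bk.dih_conj (Bk.dih_inv ha' hb).1 (j + 1)).trans ?_⟩
  rw [show 2 * (j + 1) = 2 * j + 1 + 1 by ring, pow_succ, ← hj,
    pow_card (by rw [map_mul, e, ← map_mul, hb, map_one]), one_mul, ← mul_assoc, ha', one_mul]

theorem lift (hodd : Odd (Nat.card π.ker)) {N : Subgroup G} {q : Γ} (h : q ∈ N.map π)
    (h2 : q * q = 1) : ∃ a ∈ N, a * a = 1 ∧ π a = q := by
  obtain ⟨n, hn, rfl⟩ := h
  obtain ⟨j, hj⟩ := hodd
  refine ⟨n ^ Nat.card π.ker, pow_mem hn _, ?_, ?_⟩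
  · rw [← (Commute.refl n).mul_pow]; exact pow_card (by rw [map_mul, h2])
  · rw [map_pow, hj, pow_succ, pow_mul, pow_two, h2, one_pow, one_mul]

theorem span : ∀ p < 8, inL (2 ^ p) = true ∨ ∃ d < 256, inL d = true ∧ inL (d ^^^ 2 ^ p) = true := by
  decide +kernel

theorem exists_rel (hodd : Odd (Nat.card π.ker)) (hπ : Function.Surjective π) {t : G}
    (tt : t * t = 1) (ht : t ∈ centralizer (π.ker : Set G)) {D : HSD Γ} {x0 : Γ} (F : D.QF x0)
    (hD : D.t = π t) : ∃ g z, Rel g z ∧ Full g z ∧ g 0 = t ∧ π z = D.z ∧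
      ∀ c, π (el g z c) = el (D.gx x0) D.z c ∧ el g z c ∈ centralizer (π.ker : Set G) := by
  have hN : ∀ q, IsConj D.t q → q ∈ (centralizer (π.ker : Set G)).map π := fun q h => by
    obtain ⟨c, rfl⟩ := isConj_iff.1 h
    exact (Normal.map inferInstance π hπ).conj_mem _ (hD ▸ mem_map_of_mem π ht) c
  have hz : D.z ∈ (centralizer (π.ker : Set G)).map π :=
    (mul_mem_cancel_left (hN _ (IsConj.refl _))).1 (hN _ F.tu)
  obtain ⟨z, z1, z2, z3⟩ := lift hodd hz D.zz
  have : ∀ p, ∃ a ∈ centralizer (π.ker : Set G), p < 8 → a * a = 1 ∧ π a = D.gx x0 p := fun p => by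
    by_cases hp : p < 8
    · simp only [hp, forall_true_left]
      refine lift hodd ?_ (F.rel.sq p hp)
      rw [← el_two_pow (D.gx x0) D.z hp]
      rcases span p hp with h | ⟨d, -, h1, h2⟩
      · exact hN _ ((F.inL_iff _).2 h)
      · obtain ⟨s, e⟩ := (F.rel.ez_mul (F.ok d) (d ^^^ 2 ^ p)).symm D.zz
        rw [← Nat.xor_assoc, Nat.xor_self, Nat.zero_xor] at e
        rw [e]
        refine mul_mem (mul_mem (hN _ ((F.inL_iff _).2 h1)) (hN _ ((F.inL_iff _).2 h2))) ?_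
        cases s
        exacts [one_mem _, hz]
    · exact ⟨1, one_mem _, fun h => absurd h hp⟩
  choose g g1 g2 using this
  have cj : ∀ {a b c : G}, c ∈ centralizer (π.ker : Set G) → b * b = 1 → c * c = 1 →
      π a * π b = π c * π a → a * b = c * a := fun {a b c} hc hb h2 e =>
    mul_inv_eq_iff_eq_mul.1 (uniq hodd hc (by rw [map_mul, map_mul, e, map_inv, mul_inv_cancel_right])
      (four h2) (four (HSD.isConj_sq (HSD.isConj_conj a b) hb))).symm
  have cz : ∀ p < 8, Commute (g p) z := fun p hp =>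
    cj z1 z2 z2 (by rw [(g2 p hp).2, z3]; exact F.rel.cz p hp)
  have hh : ∀ p < 8, ∀ q < 8, D.gx x0 q * D.gx x0 p = D.gx x0 p * D.gx x0 q * D.z →
      g q * g p = g p * g q * z := fun p hp q hq e => by
    rw [mul_assoc, (cz q hq).eq, ← mul_assoc]
    refine cj (mul_mem (g1 p) z1) (g2 p hp).1
      (by rw [(cz p hp).symm.mul_mul_mul_comm, (g2 p hp).1, z2, one_mul]) ?_
    rw [map_mul, (g2 p hp).2, (g2 q hq).2, z3, e, mul_assoc, (F.rel.cz q hq).eq, mul_assoc]
  have g0 := (g2 0 (by omega)).2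
  refine ⟨g, z, ⟨z2, fun e => F.rel.z1 (by rw [← z3, e, map_one]),
    fun e => F.rel.t1 (by rw [← g0, e, map_one]), fun e => F.rel.tz (by rw [← g0, e, z3]),
    fun p hp => (g2 p hp).1, cz, fun p hp q hq e => cj (g1 q) (g2 q hq).1 (g2 q hq).1
      (by rw [(g2 p hp).2, (g2 q hq).2]; exact F.rel.cm p hp q hq e),
    hh _ (by omega) _ (by omega) F.rel.h12, hh _ (by omega) _ (by omega) F.rel.h34,
    hh _ (by omega) _ (by omega) F.rel.h56⟩, hh _ (by omega) _ (by omega) F.full,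
    uniq hodd (g1 0) (by rw [g0, D.gx_0, hD]) (four (g2 0 (by omega)).1) (four tt), z3,
    fun c => ⟨?_, el_mem z1 fun p _ _ => g1 p⟩⟩
  rw [map_el, z3]
  exact el_congr fun p hp _ => (g2 p hp).2

theorem exists_pr.{u} {G : Type u} [Group G] [Finite G] {z : G} (hz : z * z = 1) :
    ∃ (H : Type u) (_ : Group H) (_ : Finite H)
    (pr : centralizer {z} →* H), Function.Surjective pr ∧ ∀ a b, pr a = pr b ↔ Ez z a b := by
  let Z : Subgroup (centralizer {z}) := ⟨⟨⟨{a | Ez z a 1}, fun ha hb => by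
    simpa using Ez.mul hz (Commute.one_left _) ha hb⟩, Ez.refl _ _⟩, fun {a} ⟨s, e⟩ => ⟨s, by
    rw [coe_inv, e, one_mul, inv_eq_iff_mul_eq_one, pw_mul_pw hz]; simp⟩⟩
  have : Z.Normal := ⟨fun n hn g => show Ez _ _ _ by
    simpa using Ez.conj (mem_centralizer_singleton_iff.1 g.2) hn⟩
  refine ⟨_, inferInstance, inferInstance, QuotientGroup.mk' Z, QuotientGroup.mk'_surjective _,
    fun a b => ?_⟩
  rw [eq_comm, QuotientGroup.mk'_apply, QuotientGroup.mk'_apply, QuotientGroup.eq]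
  exact exists_congr fun s => by rw [coe_mul, coe_inv, one_mul, inv_mul_eq_iff_eq_mul]

theorem ez_coe {M : Subgroup G} {z a b : M} : Ez (z : G) a b ↔ Ez z a b :=
  exists_congr fun s => by rw [Subtype.ext_iff]; cases s <;> rfl

end Lift

open Lift in
theorem lift_top {G Γ : Type*} [Group G] [Finite G] [IsSimpleGroup G] [Group Γ] {M : Subgroup G}
    (π : M →* Γ) (hπ : Function.Surjective π) (hodd : Odd (Nat.card π.ker)) {t : M}
    (tt : t * t = 1) (hC : centralizer {(t : G)} ≤ M) (ht : ∀ o ∈ π.ker, Commute t o)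
    (D : HSD Γ) {x0 : Γ} (F : D.QF x0) (hD : D.t = π t) {z0 : M} (h2 : z0 * z0 = 1) (h1 : z0 ≠ 1)
    (hz : ¬ IsConj (t : G) z0) : M = ⊤ := by
  have : Finite Γ := Finite.of_surjective π hπ
  obtain ⟨g, z, R, Fu, g0, πz, hε⟩ := exists_rel hodd hπ tt (fun o ho => (ht o ho).symm) F hD
  have ok : ∀ c, Ok g z c := fun c => Or.inl Fu
  have t1 : (t : G) ≠ 1 := fun e => R.t1 (g0.trans (Subtype.ext e))
  have tt' : (t : G) * t = 1 := congrArg Subtype.val tt
  have zz : (z : G) * z = 1 := congrArg Subtype.val R.zz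
  have cl : ∀ {a : M}, a * a = 1 → a ≠ 1 → IsConj t a ∨ IsConj z a := fun h h1 =>
    (F.two_classes (by rw [← map_mul, h, map_one]) fun e => h1 (eq_one hodd e (four h))).imp
      (fun e => conj hodd hπ tt h (hD ▸ e)) fun e => conj hodd hπ R.zz h (πz ▸ e)
  have up : ∀ {a b : M}, IsConj a b → IsConj (a : G) b := fun h => M.subtype.map_isConj h
  have tz : ¬ IsConj (t : G) z := fun e => hz ((cl h2 h1).elim up fun e' => e.trans (up e'))
  have fus : ∀ {a : M}, IsConj (t : G) a → IsConj t a := fun e =>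
    (cl (Subtype.ext (HSD.isConj_sq e tt')) fun e' => t1 (isConj_one_left.1 (by
      rwa [e'] at e))).resolve_right fun e' => tz (e.trans (up e').symm)
  have dn : ∀ {a : M}, IsConj (t : G) a → IsConj D.t (π a) := fun e => hD ▸ π.map_isConj (fus e)
  have FP : ∀ {u : M}, centralizer {(u : G)} ≤ M → ∀ {h : G} {a b : M}, IsConj u a → IsConj u b →
      h * a * h⁻¹ = b → h ∈ M := fun hu h a b ha hb e => by
    obtain ⟨m, rfl⟩ := isConj_iff.1 ha
    obtain ⟨n, rfl⟩ := isConj_iff.1 hb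
    refine (mul_mem_cancel_left (inv_mem n.2)).1 ((mul_mem_cancel_right m.2).1
      (hu (mem_centralizer_singleton_iff.2 (mul_inv_eq_iff_eq_mul.1 ?_))))
    simp only [coe_mul, coe_inv] at e
    rw [← mul_right_inj (n : G), ← mul_left_inj (n : G)⁻¹, ← e]; group
  have ch : ∀ b : M, b ^ 4 = 1 → π b ∈ F.Q → ∃ c, b = el g z c := fun b hb ⟨c, e⟩ =>
    ⟨c, (uniq hodd (hε c).2 ((hε c).1.trans e.symm) (by
      rw [show 4 = 2 * 2 from rfl, pow_mul, pow_two (el g z c), R.el_sq (ok c), pow_two,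
        pw_mul_pw R.zz]; simp) hb).symm⟩
  have πc : ∀ {h : M}, Commute (h : G) z → Commute (π h) D.z := fun h =>
    πz ▸ (show Commute _ z from Subtype.ext h).map π
  obtain ⟨H, _, _, pr, hs, pe⟩ := exists_pr zz
  have mT : ∀ a, pr a ∈ {x | ∃ d : centralizer {(z : G)},
      (IsConj (t : G) d ∧ IsConj (t : G) (d * z)) ∧ pr d = x} ↔
      IsConj (t : G) a ∧ IsConj (t : G) (a * z) := fun a =>
    ⟨fun ⟨d, hd, e⟩ => by
      rcases ez_iff.1 ((pe _ _).1 e.symm) with e | e <;> rw [e]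
      exacts [hd, ⟨hd.2, by rw [mul_assoc, zz, mul_one]; exact hd.1⟩], fun h => ⟨a, h, rfl⟩⟩
  have mX : ∀ {a : G}, a ∈ centralizer {(z : G)} ↔ Commute a z := mem_centralizer_singleton_iff
  have eL : ∀ c, IsConj (t : G) (el g z c : M) ↔ inL c = true := fun c =>
    ⟨fun e => (F.inL_iff c).1 ((hε c).1 ▸ dn e), fun e => by
      have e1 := (F.inL_iff c).2 e
      refine up (conj hodd hπ tt ?_ (by rw [(hε c).1, ← hD]; exact e1))
      rw [R.el_sq (ok c), F.rel.pw_eq_one ((F.rel.el_sq (F.ok c)).symm.trans (HSD.isConj_sq e1 D.tt)),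
        pw_false]⟩
  let B : Bk {x | ∃ d : centralizer {(z : G)},
      (IsConj (t : G) d ∧ IsConj (t : G) (d * z)) ∧ pr d = x} :=
    { e := fun c => pr ⟨(el g z c : M), mX.2 ((R.el_z c).map M.subtype)⟩
      e_xor := fun c d => by
        rw [← map_mul, pe]; exact ez_coe.2 ((R.ez_mul (ok c) d).symm R.zz)
      e_inj := fun c d => (pe _ _).trans (ez_coe.trans ⟨R.el_ez_inj (ok c) (ok d), R.ez_of_mod⟩)
      e_T := fun c => (mT _).trans ⟨fun h => (eL c).1 h.1, fun h => ⟨(eL c).2 h, by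
        have := (eL (c ^^^ zb true)).2 (by rwa [← inL_mod, xor_zb_mod, inL_mod])
        rwa [el_xor_zb R.zz] at this⟩⟩
      T_conj := by
        rintro h _ ⟨d, hd, rfl⟩
        obtain ⟨h, rfl⟩ := hs h
        rw [← map_inv, ← map_mul, ← map_mul, mT]
        refine ⟨hd.1.trans (HSD.isConj_conj _ _), ?_⟩
        have := hd.2.trans (HSD.isConj_conj (h : G) _)
        rwa [← conj_mul, (mX.1 h.2).eq, mul_inv_cancel_right] at this
      T_sq := by
        rintro _ ⟨d, hd, rfl⟩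
        rw [← map_mul, show d * d = 1 from Subtype.ext (HSD.isConj_sq hd.1 tt'), map_one] }
  have mB : ∀ a, pr a ∈ B.A ↔ ∃ c, (a : G) = (el g z c : M) := fun a =>
    ⟨fun ⟨c, e⟩ => by
      obtain ⟨s, e⟩ := (pe _ _).1 e
      exact ⟨c ^^^ zb s, by rw [e, el_xor_zb R.zz]; cases s <;> rfl⟩,
      fun ⟨c, e⟩ => ⟨c, (pe _ _).2 (Ez.of_eq e)⟩⟩
  have tB : ∀ a : centralizer {(z : G)}, B.Nm (pr a) → (a : G) ∈ M := fun a h => by
    have := h _ (B.e_mem 1)
    rw [← map_inv, ← map_mul, ← map_mul, mB] at this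
    obtain ⟨c, e⟩ := this
    have e' : (a : G) * t * (a : G)⁻¹ = (el g z c : M) := by rw [← e, ← g0, ← el_one g z]; rfl
    exact FP hC (IsConj.refl _) (fus (isConj_iff.2 ⟨_, e'⟩)) e'
  have good : B.Good := ⟨fun h d hd hT e q hq => by
      obtain ⟨h, rfl⟩ := hs h
      obtain ⟨d, rfl⟩ := hs d
      obtain ⟨q, rfl⟩ := hs q
      rw [← map_inv, ← map_mul, ← map_mul, mB] at e ⊢
      obtain ⟨c, e1⟩ := (mB _).1 hd
      obtain ⟨c', e2⟩ := e
      obtain ⟨k, e3⟩ := (mB _).1 hq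
      have e4 := e1 ▸ ((mT _).1 hT).1
      have e5 : (h : G) * (el g z c : M) * (h : G)⁻¹ = (el g z c' : M) := e1 ▸ e2
      have hM := FP hC (fus e4) (fus (e4.trans (isConj_iff.2 ⟨_, e5⟩))) e5
      obtain ⟨k', e6⟩ := ch (⟨h, hM⟩ * el g z k * (⟨h, hM⟩ : M)⁻¹) (by
        rw [conj_pow, show 4 = 2 * 2 from rfl, pow_mul, pow_two (el g z k), R.el_sq (ok k), pow_two,
          pw_mul_pw R.zz]; simp) (by
        rw [map_mul, map_mul, map_inv, (hε k).1]
        exact F.norm_Q (πc (mX.1 h.2)) _ ⟨k, rfl⟩)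
      exact ⟨k', by rw [← e6, coe_mul, coe_mul, e3]; rfl⟩, fun s hT h => by
      obtain ⟨s, rfl⟩ := hs s
      have hM := tB s h
      obtain ⟨e1, e2⟩ := (mT _).1 hT
      have c1 := πc (h := ⟨s, hM⟩) (mX.1 s.2)
      obtain ⟨c, e⟩ := ch ⟨s, hM⟩ (four (Subtype.ext (HSD.isConj_sq e1 tt')))
        (F.e1 ⟨c1, dn e1, by rw [← πz, ← map_mul]; exact dn e2⟩ (F.norm_Q c1))
      exact (mB _).2 ⟨c, congrArg Subtype.val e⟩⟩
  have hZ : centralizer {(z : G)} ≤ M := fun a ha => tB ⟨a, ha⟩ (good.normal _)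
  have h3 : normalClosure {(t : G)} ≤ M := by
    refine (closure_le M).2 fun s hs => ?_
    obtain ⟨_, rfl, hs⟩ := Group.mem_conjugatesOfSet_iff.1 hs
    obtain ⟨a, a2, a1, c1, c2⟩ := HSD.QF.exists_cent_invol zz (fun e => R.z1 (Subtype.ext e))
      (HSD.isConj_sq hs tt') (fun e => t1 (isConj_one_left.1 (e ▸ hs))) fun h => tz (hs.trans h.symm)
    have e := mul_inv_eq_iff_eq_mul.2 c2.eq
    rcases cl (a := ⟨a, hZ (mX.2 c1.symm)⟩) (Subtype.ext a2) (fun e => a1 (congrArg Subtype.val e))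
      with h | h
    exacts [FP hC h h e, FP hZ h h e]
  rcases (normalClosure_normal (s := {(t : G)})).eq_bot_or_eq_top with h | h
  · exact absurd (mem_bot.1 (h ▸ subset_normalClosure rfl)) t1
  · exact top_le_iff.1 (h ▸ h3)

end Cfsg.Lib.HK
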