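import Cfsg.Agent.HK.KO
import Cfsg.Agent.HK.Lift
import Cfsg.Agent.HK.ModA
import Cfsg.Agent.S1674

/-! Standard subgroups `L ≅ 2.HS`: the case `K = O⟨t⟩`. -/

set_option autoImplicit false

namespace Cfsg.Lib.HK

open Subgroup Cfsg.Lib.HN

variable {P G : Type*} [Group P] [Group G] {D : HSD P} {e : P → G} [Finite G] {g : G}

/-- the involution centraliser in the quotient by `O` -/
theorem One.hyp (F : Fr D e g) (hI : ∀ κ ∈ KK D e, κ ∈ OO D e g ∨ κ * e D.t ∈ OO D e g)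
    {Γ : Type*} [Group Γ] {N : Subgroup G} (hN : ∀ {n}, Commute n (e D.t) → n ∈ N) (π : N →* Γ)
    (hπ : Function.Surjective π) (hk : ∀ x, π x = 1 ↔ (x : G) ∈ OO D e g) {s : Γ}
    (hs : π ⟨e D.t, hN (Commute.refl _)⟩ = s) :
    orderOf s = 2 ∧ ∃ M : Subgroup (centralizer ({s} : Set Γ)), M.index = 2 ∧
      centralizer (M : Set (centralizer ({s} : Set Γ))) ≤ M ∧
      Cfsg.IsNonsplitDoubleCover M Cfsg.Spor.HS := by
  have S := F.toSt
  have hc : ∀ {n} (h : Commute n (e D.t)), π ⟨n, hN h⟩ ∈ centralizer ({s} : Set Γ) := fun h => by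
    rw [mem_centralizer_singleton_iff, ← hs, ← map_mul, ← map_mul]
    exact congrArg π (Subtype.ext h.eq)
  have hd : ∀ x : centralizer ({s} : Set Γ), ∃ n, ∃ h : Commute n (e D.t), x = ⟨_, hc h⟩ := by
    rintro ⟨x, hx⟩
    obtain ⟨⟨m, hm⟩, rfl⟩ := hπ x
    rw [mem_centralizer_singleton_iff, ← hs, ← map_mul, ← map_mul, ← mul_inv_eq_one, ← map_inv,
      ← map_mul, hk] at hx
    have k : m * e D.t * (e D.t * m)⁻¹ = 1 := S.eq_one_of_KK F.not_comm hx.1 (mem_OO.1 hx).2 (by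
      have k1 : Commute (m * e D.t * (e D.t * m)⁻¹) (e D.t) := St.K_t hx.1
      calc _ = m * e D.t * m⁻¹ * (e D.t)⁻¹ * (m * e D.t * (e D.t * m)⁻¹) := by group
        _ = m * (e D.t * e D.t) * m⁻¹ * (e D.t * e D.t)⁻¹ := by
          rw [mul_assoc _ (e D.t)⁻¹, ← k1.inv_right.eq]; group
        _ = 1 := by rw [S.tt]; group)
    exact ⟨m, mul_inv_eq_one.1 k, rfl⟩
  let ψ : D.M →* centralizer ({s} : Set Γ) :=
    (π.comp (S.hom.codRestrict N fun m => hN (S.ct m.2))).codRestrict _ fun m => hc (S.ct m.2)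
  have eq : ∀ {n} (h : Commute n (e D.t)) (l : D.M), ψ l = ⟨_, hc h⟩ ↔ (e l)⁻¹ * n ∈ OO D e g :=
    fun h l => by
      rw [Subtype.ext_iff, ← inv_mul_eq_one]
      exact ((map_mul π _ _).trans (congrArg (· * _) (map_inv π _))) ▸
        hk ((⟨e l, hN (S.ct l.2)⟩ : N)⁻¹ * ⟨_, hN h⟩)
  have hm : ∀ {n} (h : Commute n (e D.t)), (⟨_, hc h⟩ : centralizer {s}) ∈ ψ.range ↔ Inn D e n :=
    fun {n} h => by
      refine ⟨fun ⟨l, k⟩ => ⟨l, l.2, ((eq h l).1 k).1⟩, fun ⟨l, hl, k⟩ => ?_⟩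
      rcases hI _ k with k1 | k1
      · exact ⟨⟨l, hl⟩, (eq h _).2 k1⟩
      · refine ⟨⟨l * D.t, mul_mem hl D.t_M⟩, (eq h _).2 ?_⟩
        rwa [S.mul _ hl _ D.t_M, mul_inv_rev, mul_assoc, inv_eq_of_mul_eq_one_left S.tt,
          ← (St.K_t k).eq]
  have mul : ∀ {n n'} (h : Commute n (e D.t)) (h' : Commute n' (e D.t)),
      (⟨_, hc h⟩ * ⟨_, hc h'⟩ : centralizer {s}) = ⟨_, hc (h.mul_left h')⟩ := fun h h' =>
    Subtype.ext (map_mul π _ _).symm
  refine ⟨orderOf_eq_prime ?_ (hs ▸ mt (hk _).1 F.t_not_O), ψ.range, ?_, fun x hx => ?_, ?_⟩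
  · rw [← hs, ← map_pow, ← map_one π]
    exact congrArg π (Subtype.ext ((pow_two _).trans S.tt))
  · obtain ⟨h1, h2⟩ := F.out D.s2_M D.s2_z s2_yy
    refine index_eq_two_iff'.2 ⟨⟨_, hc h1⟩, fun b => ?_⟩
    obtain ⟨n, h, rfl⟩ := hd b
    rw [mul h1 h, hm (h1.mul_left h), hm h, S.inn_mul_iff h1 h]
    tauto
  · obtain ⟨n, h, rfl⟩ := hd x
    refine (hm h).2 (S.inn_K (mem_KK.2 fun m hm => ?_))
    obtain ⟨m', hm', e1⟩ := S.conj_L h hm
    have k := mem_centralizer_iff.1 hx (ψ ⟨m, hm⟩) ⟨_, rfl⟩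
    have k1 : ψ ⟨m', hm'⟩ = ⟨_, hc (S.ct hm)⟩ := by
      refine mul_right_cancel (b := ⟨_, hc h⟩) (Eq.trans ?_ k.symm)
      refine (mul (S.ct hm') h).trans ((mul h (S.ct hm)).trans (Subtype.ext (congrArg π ?_))).symm
      exact Subtype.ext (mul_inv_eq_iff_eq_mul.1 e1)
    rw [eq (S.ct hm), ← S.inv hm', ← S.mul _ (inv_mem hm') _ hm] at k1
    rw [inv_mul_eq_one.1 (F.OL (mul_mem (inv_mem hm') hm) k1)] at e1
    exact mul_inv_eq_iff_eq_mul.1 e1
  · refine Spor.Bulk.IsNonsplitDoubleCover.congr D.cov (MonoidHom.ofInjective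
      ((injective_iff_map_eq_one ψ).2 fun l k => Subtype.ext (F.OL l.2
        ((hk ⟨_, hN (S.ct l.2)⟩).1 ?_))))
    exact congrArg Subtype.val k

namespace Fr
variable (F : Fr D e g)
include F

theorem isoHN [IsSimpleGroup G]
    (hI : ∀ κ ∈ KK D e, κ ∈ OO D e g ∨ κ * e D.t ∈ OO D e g) : Cfsg.Spor.IsoHN G := by
  have S := F.toSt
  have nm : ∀ {n}, (∀ κ ∈ OO D e g, n * κ * n⁻¹ ∈ OO D e g) → n ∈ normalizer (OO D e g : Set G) :=
    fun h => mem_normalizer_fintype h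
  have hN : ∀ {n}, Commute n (e D.t) → n ∈ normalizer (OO D e g : Set G) := fun h =>
    nm fun _ => F.conj_O h
  have hg := nm fun _ => F.conj_O_g
  have hk : ∀ x, QuotientGroup.mk' ((OO D e g).subgroupOf (normalizer (OO D e g : Set G))) x = 1 ↔
      (x : G) ∈ OO D e g := fun x => QuotientGroup.eq_one_iff x
  have hπ := QuotientGroup.mk'_surjective ((OO D e g).subgroupOf (normalizer (OO D e g : Set G)))
  have hO : Odd (Nat.card (QuotientGroup.mk' ((OO D e g).subgroupOf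
      (normalizer (OO D e g : Set G)))).ker) := by
    rw [QuotientGroup.ker_mk', Nat.card_congr (subgroupOfEquivOfLe le_normalizer).toEquiv]
    exact F.odd_O
  generalize QuotientGroup.mk' ((OO D e g).subgroupOf (normalizer (OO D e g : Set G))) = π
    at hk hπ hO
  obtain ⟨h1, M, h2, h3, h4⟩ := One.hyp F hI hN π hπ hk rfl
  obtain ⟨D', x0, e1, F'⟩ := exists_qf' _ h1 M h2 h3 h4
    (s := π ⟨_, hN ((Commute.refl _).mul_left S.tz.symm)⟩)
    (fun k => by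
      rw [← inv_mul_eq_one, ← map_inv, ← map_mul, hk] at k
      refine D.rel.z1 (F.OL D.z_M ?_)
      simpa [mul_assoc, S.tz.inv_left.eq, S.zz, inv_eq_of_mul_eq_one_left S.zz] using inv_mem k)
    (Commute.map (Subtype.ext ((Commute.refl _).mul_left S.tz.symm).eq) π)
    (π.map_isConj (isConj_iff.2 ⟨⟨g, hg⟩, Subtype.ext F.gt⟩))
  have top := lift_top π hπ hO (t := ⟨_, hN (Commute.refl _)⟩) (Subtype.ext S.tt)
    (fun n h => hN (mem_centralizer_singleton_iff.1 h))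
    (fun o ho => Subtype.ext (St.K_t ((hk o).1 ho).1).symm.eq) D' F' e1
    (z0 := ⟨_, hN S.tz.symm⟩) (Subtype.ext S.zz) (fun k => S.z_ne (congrArg Subtype.val k)) F.nz
  have bot : OO D e g = ⊥ := (normalizer_eq_top_iff.1 top).eq_bot_or_eq_top.resolve_right
    fun k => F.t_not_O (k ▸ mem_top _)
  obtain ⟨h1, M, h2, h3, h4⟩ := One.hyp F hI (N := ⊤) (fun _ => mem_top _) (⊤ : Subgroup G).subtype
    (fun x => ⟨⟨x, mem_top x⟩, rfl⟩) (fun x => by rw [bot, mem_bot]; rfl) (s := e D.t) rfl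
  have := normal_of_index_eq_two h2
  exact Cfsg.Agent.S1674.result _ h1 M h2 h3 h4

end Fr

end Cfsg.Lib.HK
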