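import Cfsg.Agent.Trans.OrbitTransfer
import Cfsg.Agent.Local.KleinDich
import Cfsg.Agent.Gold.PrFus

/-!
# A subgroup of index two from the transfer of an element of order four
-/

set_option autoImplicit false

namespace Cfsg.Lib.HK

open Subgroup MulAction Cfsg.Lib.Trans
open scoped commutatorElement

namespace Trans

/-- An invariant sign function with exactly one fixed point of negative sign. -/
theorem prod_ne_one {Q Ω : Type*} [Group Q] [MulAction Q Ω] [Fintype Ω] (hQ : IsPGroup 2 Q)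
    (F : Ω → ℤˣ) (hF : ∀ (p : Q) q, F (p • q) = F q) {q₀ : Ω} (h0 : ∀ p : Q, p • q₀ = q₀)
    (h1 : F q₀ ≠ 1) (h2 : ∀ q, (∀ p : Q, p • q = q) → q ≠ q₀ → F q = 1) : ∏ q, F q ≠ 1 := by
  classical
  rw [prod_eq_prod_fixed (D := Q) F (Finset.univ.filter fun q => ∀ p : Q, p • q = q)
    (fun q hq => (Finset.mem_filter.1 hq).2) fun q hq => ?_,
    Finset.prod_eq_single_of_mem q₀ (by simpa using h0)
      fun q hq => h2 q (Finset.mem_filter.1 hq).2]
  · exact h1
  rw [Finset.prod_congr rfl (g := fun _ => F q) fun r hr => by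
    obtain ⟨p, rfl⟩ := (Finset.mem_filter.1 hr).2
    exact hF p q, Finset.prod_const]
  obtain ⟨n, hn⟩ := hQ.card_orbit q
  have h3 : (Finset.univ.filter fun r => r ∈ orbit Q q).card = 2 ^ n := by
    rw [← hn, Nat.card_eq_fintype_card, Fintype.card_subtype]
  rw [h3]
  rcases n with _ | n
  · refine absurd (Finset.mem_filter.2 ⟨Finset.mem_univ _, fun p => ?_⟩) hq
    exact Finset.card_le_one.1 h3.le _ (by simp) _ (by simp)
  · rw [pow_succ', pow_mul, Int.units_sq, one_pow]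

variable {G : Type*} [Group G]

/-- The action of a subgroup centralising `k` on the orbits of `k`. -/
@[reducible] def act (H : Subgroup G) {Q : Subgroup G} {k : G} (hc : ∀ p ∈ Q, Commute k p) :
    MulAction Q (Quotient (orbitRel (zpowers k) (G ⧸ H))) where
  smul p := Quotient.map' (fun x => (p : G) • x) fun a b ⟨⟨_, n, rfl⟩, e⟩ =>
    ⟨⟨_, n, rfl⟩, by
      change k ^ n • (p : G) • b = _
      rw [← e, smul_smul, ((hc p p.2).zpow_left n).eq, mul_smul]; rfl⟩
  one_smul q := Quotient.inductionOn' q fun x => congrArg Quotient.mk'' (one_smul G x)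
  mul_smul a b q := Quotient.inductionOn' q fun x => congrArg Quotient.mk'' (mul_smul (a : G) b x)

end Trans

open HK.Trans

theorem exists_index_two {G : Type*} [Group G] [Finite G] {H H0 Q : Subgroup G} {k : G}
    (h0 : H0 ≤ H) (hi : H0.relIndex H = 2) (hQ : IsPGroup 2 Q) (hQH : Q ≤ H) (hk : k ∈ Q)
    (hc : ∀ p ∈ Q, Commute k p) (h4 : k ^ 4 = 1) (h2 : k * k ∈ ⁅Q, Q⁆) (hk0 : k ∉ H0)
    (hu : ∀ x : G, (∀ p ∈ Q, x⁻¹ * p * x ∈ H) → x ∈ H) : ∃ N : Subgroup G, N.index = 2 := by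
  classical
  have hM : Local.IdxLeTwo (H0.subgroupOf H) ⊤ := fun a _ b _ ha hb =>
    (mul_mem_iff_of_index_two hi).2 (iff_of_false ha hb)
  let φ : H →* ℤˣ := Gold.sgnHom hM (-1) (by simp)
  have : Fintype (Quotient (orbitRel (zpowers k) (G ⧸ H))) := Fintype.ofFinite _
  let f : G ⧸ H → ℤˣ := fun x => if k • x = x then cosetVal φ k x else cosetVal φ (k * k) x
  have hf : ∀ p ∈ Q, ∀ x, f (p • x) = f x := fun p hp x => by
    have e1 : p⁻¹ * k * p = k := by rw [mul_assoc, (hc p hp).eq, inv_mul_cancel_left]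
    have e2 : p⁻¹ * (k * k) * p = k * k := by
      rw [mul_assoc, ((hc p hp).mul_left (hc p hp)).eq, inv_mul_cancel_left]
    simp only [f, cosetVal_smul, e1, e2]
    simp only [smul_smul, (hc p hp).eq]
    simp only [mul_smul, smul_left_cancel_iff]
  have hzk : zpowers k ≤ Q := zpowers_le.2 hk
  have hout : ∀ x : G ⧸ H, f (Quotient.mk'' x : Quotient (orbitRel (zpowers k) (G ⧸ H))).out =
      f x := fun x => by
    obtain ⟨n, e⟩ : _ ∈ orbit (zpowers k) x :=
      orbitRel_apply.1 (Quotient.exact (Quotient.out_eq (Quotient.mk'' x)))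
    rw [← e]
    exact hf _ (hzk n.2) x
  refine ⟨_, Local.index_ker_eq_two (MonoidHom.transfer φ) (y := k) ?_⟩
  rw [MonoidHom.transfer_eq_prod_quotient_orbitRel_zpowers_quot,
    Finset.prod_congr rfl (g := fun q => f q.out) fun q _ => ?_]
  · letI := act H hc
    have e1 : ∀ p ∈ H, p • ((1 : G) : G ⧸ H) = (1 : G) := fun p hp =>
      (smul_mk_eq_iff_conj_mem p 1).2 (by simpa using hp)
    refine prod_ne_one hQ _ (fun p q => Quotient.inductionOn' q fun x => ?_)
      (q₀ := Quotient.mk'' ((1 : G) : G ⧸ H)) (fun p => congrArg Quotient.mk'' (e1 p (hQH p.2))) ?_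
      fun q => Quotient.inductionOn' q fun x hx hne => ?_
    · rw [hout]
      simp only [f, e1 k (hQH hk), if_true, cosetVal_mk, inv_one, one_mul, mul_one]
      rw [extOne_of_mem φ (hQH hk), Gold.sgnHom_of_not_mem hM _ _ hk0]
      decide
    · exact (hout _).trans ((hf p p.2 x).trans (hout x).symm)
    obtain ⟨g, rfl⟩ := QuotientGroup.mk_surjective x
    have h5 : ∀ p ∈ Q, ∃ n : ℤ, g⁻¹ * ((k ^ n)⁻¹ * p) * g ∈ H := fun p hp => by
      obtain ⟨⟨_, n, rfl⟩, e⟩ : p • (g : G ⧸ H) ∈ orbit (zpowers k) (g : G ⧸ H) :=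
        orbitRel_apply.1 (Quotient.exact (hx ⟨p, hp⟩))
      exact ⟨n, (smul_mk_eq_iff_conj_mem _ g).1 (by rw [mul_smul, ← e]; exact inv_smul_smul (k ^ n) (g : G ⧸ H))⟩
    rw [hout]
    simp only [f, cosetVal_mk]
    split_ifs with h6
    · refine absurd (congrArg Quotient.mk'' ?_) hne
      rw [eq_comm, QuotientGroup.eq, inv_one, one_mul]
      refine hu g fun p hp => ?_
      obtain ⟨n, h7⟩ := h5 p hp
      have := mul_mem (zpow_mem ((smul_mk_eq_iff_conj_mem k g).1 h6) n) h7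
      rwa [show g⁻¹ * k * g = g⁻¹ * k * g⁻¹⁻¹ by rw [inv_inv], conj_zpow, show
        g⁻¹ * k ^ n * g⁻¹⁻¹ * (g⁻¹ * ((k ^ n)⁻¹ * p) * g) = g⁻¹ * p * g by group] at this
    have h7 : ⁅Q, Q⁆ ≤ cj g H0 := commutator_le.2 fun p hp p' hp' => by
      obtain ⟨n, e⟩ := h5 p hp
      obtain ⟨n', e'⟩ := h5 p' hp'
      have c1 := fun (m : ℤ) q (hq : q ∈ Q) => ((hc q hq).zpow_left m).inv_left
      have e2 : ⁅(k ^ n)⁻¹ * p, (k ^ n')⁻¹ * p'⁆ = ⁅p, p'⁆ := by
        have c2 : ∀ a ∈ Q, ∀ b ∈ Q, ⁅a, b⁆ ∈ Q := fun a ha b hb =>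
          mul_mem (mul_mem (mul_mem ha hb) (inv_mem ha)) (inv_mem hb)
        have hq : (k ^ n')⁻¹ * p' ∈ Q := mul_mem (inv_mem (zpow_mem hk n')) hp'
        rw [commutatorElement_mul_left_eq_conj_mul, (c1 n _ hq).commutator_eq, mul_one,
          (c1 n _ (c2 _ hp _ hq)).eq,
          mul_inv_cancel_right, ← commutatorElement_inv, commutatorElement_mul_left_eq_conj_mul,
          (c1 n' _ hp).commutator_eq, mul_one,
          (c1 n' _ (c2 _ hp' _ hp)).eq,
          mul_inv_cancel_right, commutatorElement_inv]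
      have h8 : φ ⁅(⟨_, e⟩ : H), ⟨_, e'⟩⁆ = 1 := by
        rw [map_commutatorElement, commutatorElement_eq_one_iff_mul_comm, mul_comm]
      rw [mem_cj, ← e2]
      by_contra h9
      rw [Gold.sgnHom_of_not_mem hM _ _ (fun h => h9 (by
        simpa [mem_subgroupOf, commutatorElement_def, mul_assoc] using h))] at h8
      exact absurd h8 (by decide)
    have h8 := mem_cj.1 (h7 h2)
    rw [extOne_of_mem φ (h0 h8)]
    exact Gold.sgnHom_of_mem hM _ _ h8
  · rw [← extOne_of_mem φ]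
    simp only [f, cosetVal]
    have h5 : Function.minimalPeriod (k • ·) q.out ∣ 2 ^ 2 :=
      (period_dvd_orderOf k q.out).trans (orderOf_dvd_of_pow_eq_one h4)
    obtain ⟨i, hi, e⟩ := (Nat.dvd_prime_pow Nat.prime_two).1 h5
    split_ifs with h6
    · rw [Function.minimalPeriod_eq_one_iff_isFixedPt.2 h6, pow_one]
    interval_cases i
    · exact absurd (Function.minimalPeriod_eq_one_iff_isFixedPt.1 e) h6
    · rw [e, pow_one, pow_two]
    · rw [e, show 2 ^ 2 = 4 from rfl, h4, mul_one, inv_mul_cancel, extOne_of_mem φ (one_mem H),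
        extOne_of_not_mem]
      · exact map_one φ
      · rw [← smul_eq_iff_out_conj_mem, ← pow_two, pow_smul_eq_iff_period_dvd, period, e]
        decide

end Cfsg.Lib.HK
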