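import Cfsg.Agent.HK.Two
import Cfsg.Agent.HK.Trans
import Cfsg.Agent.HK.Setup
import Cfsg.Agent.HK.Pair
import Cfsg.Agent.HK.LemA
import Cfsg.Agent.HK.One
import Cfsg.Agent.HK.Uniq

/-! Standard subgroups `L ≅ 2.HS`: the main theorem. -/

set_option autoImplicit false

namespace Cfsg.Lib.HK

open Subgroup Cfsg.Lib.HN

theorem St.isoHN {P G : Type*} [Group P] [Group G] [Finite G] [IsSimpleGroup G] {D : HSD P}
    {e : P → G} (S : St D e) : Cfsg.Spor.IsoHN G := by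
  obtain ⟨g0, κ, h1, h2, h3⟩ := S.exists_pair
  obtain ⟨g1, F1⟩ := S.exists_fr h1 h2 h3
  obtain ⟨g, F, ga, gb⟩ := F1.exists_fr'
  refine F.isoHN fun κ hκ => ?_
  by_contra h
  obtain ⟨k, hk, k2⟩ := F.II_four ⟨hκ, not_or.1 h⟩
  obtain ⟨H0, a1, a2, a3⟩ := F.exists_H0 ga gb hk k2
  obtain ⟨Q, b1, b2, b3, b4, b5, b6⟩ := F.exists_Q hk k2
  obtain ⟨N, hN⟩ := exists_index_two a1 a2 b1 b2 b3 b4 (by
    rw [show k ^ 4 = k * k * (k * k) by simp [pow_succ, mul_assoc], k2, S.tt]) b5 a3 b6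
  rcases (normal_of_index_eq_two hN).eq_bot_or_eq_top with h | h
  · have ht : e D.t ∈ N := k2 ▸ mul_self_mem_of_index_two hN k
    exact S.t_ne (mem_bot.1 (h ▸ ht))
  · rw [h, index_top] at hN
    omega

theorem main {G : Type*} [Group G] [Finite G] [IsSimpleGroup G] (L : Subgroup G)
    (hL : Cfsg.IsStandardSubgroup L) (h2 : Nat.card (center L) = 2)
    (hq : Nonempty (L ⧸ center L ≃* Cfsg.Spor.HS)) : Cfsg.Spor.IsoHN G :=
  let ⟨_, _, _, _, S⟩ := exists_st L hL h2 hq; S.isoHN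

end Cfsg.Lib.HK
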