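import Cfsg.Agent.HN.Twist
import Cfsg.Agent.HN.Out

/-!
Standard subgroups `L ≅ 2.HS`: definitions.  `D : HSD P` with `D.C = ⊤` is the model `2.HS.2`,
`e` maps `D.M` isomorphically onto `L`, `K = C(L)`.
-/

set_option autoImplicit false

namespace Cfsg.Lib.HK

open Subgroup Cfsg.Lib.HN

variable {P G : Type*} [Group P] [Group G]

/-- the elements of `⟨z, a, b⟩` -/
def vv (z a b : G) (j : ℕ) : G := pw z (j.testBit 0) * pw a (j.testBit 1) * pw b (j.testBit 2)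

/-- centralises `t, z, a, b` -/
def CE (t z a b n : G) : Prop := Commute n t ∧ Commute n z ∧ Commute n a ∧ Commute n b

/-- the element `y` with `y² = z` -/
abbrev yy (D : HSD P) : P := D.el 78
/-- generators of `V₀ = ⟨z, a, b⟩` -/
abbrev aa (D : HSD P) : P := D.el 8
/-- generators of `V₀ = ⟨z, a, b⟩` -/
abbrev bb (D : HSD P) : P := D.el 65
/-- the pure subgroup `V₀ = 2³` -/
def V0 (D : HSD P) : Subgroup P := closure {D.z, aa D, bb D}
/-- `E = ⟨t⟩ × V₀` -/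
def E0 (D : HSD P) : Subgroup P := closure {D.t, D.z, aa D, bb D}
/-- the elements of `R₀ = R ∩ M` -/
def InR0 (D : HSD P) (r : P) : Prop := ∃ c < 512, c.testBit 7 = false ∧ BB c 78 = false ∧ r = D.el c
/-- the four elements `y tⁱ zʲ` -/
def Yq (D : HSD P) (η : P) : Prop :=
  η = yy D ∨ η = yy D * D.z ∨ η = yy D * D.t ∨ η = yy D * D.t * D.z

/-- additional facts on the model -/
structure HX (D : HSD P) : Prop where
  top : D.C = ⊤
  sev : ∃ f ∈ D.M, f * D.z * f⁻¹ = aa D ∧ f * aa D * f⁻¹ = bb D ∧ f * bb D * f⁻¹ = D.z * aa D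
  inv5 : ∃ j ∈ D.M, Commute j D.z ∧ j * D.f * j⁻¹ = D.f⁻¹

/-- the image `L` of `M` -/
def LL (D : HSD P) (e : P → G) : Set G := {x | ∃ m ∈ D.M, e m = x}
/-- `K = C(L)` -/
def KK (D : HSD P) (e : P → G) : Subgroup G := centralizer (LL D e)
/-- `n` acts on `L` as `c` acts on `M` -/
def Lf (D : HSD P) (e : P → G) (n : G) (c : P) : Prop :=
  ∀ m ∈ D.M, n * e m * n⁻¹ = e (c * m * c⁻¹)
/-- `n ∈ L K` -/
def Inn (D : HSD P) (e : P → G) (n : G) : Prop := ∃ l ∈ D.M, (e l)⁻¹ * n ∈ KK D e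

/-- the standard subgroup `L = e(M)` of `G` -/
structure St (D : HSD P) (e : P → G) : Prop extends HX D where
  mul : ∀ a ∈ D.M, ∀ b ∈ D.M, e (a * b) = e a * e b
  inj : ∀ a ∈ D.M, e a = 1 → a = 1
  lift : ∀ n, Commute n (e D.t) → ∃ c, Lf D e n c
  ti : ∀ g u : G, u ∈ KK D e → g * u * g⁻¹ ∈ KK D e → u * u = 1 → u ≠ 1 → Commute g (e D.t)

/-- a frame: `g` interchanges `t` and `tz` -/
structure Fr (D : HSD P) (e : P → G) (g : G) : Prop extends St D e where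
  nz : ¬ IsConj (e D.t) (e D.z)
  gt : g * e D.t * g⁻¹ = e D.t * e D.z
  gz : Commute g (e D.z)
  gX : ∀ m ∈ D.M, Commute m (yy D) → ∃ m' ∈ D.M, g * e m * g⁻¹ = e m'

/-- `O = K ∩ K^g` -/
def OO (D : HSD P) (e : P → G) (g : G) : Subgroup G :=
  KK D e ⊓ (KK D e).comap (MulAut.conj g⁻¹).toMonoidHom

/-- elements of `K` of order four modulo `O` -/
def II (D : HSD P) (e : P → G) (g κ : G) : Prop :=
  κ ∈ KK D e ∧ κ ∉ OO D e g ∧ κ * e D.t ∉ OO D e g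

theorem mem_KK {D : HSD P} {e : P → G} {κ : G} :
    κ ∈ KK D e ↔ ∀ m ∈ D.M, Commute κ (e m) :=
  ⟨fun h m hm => (h _ ⟨m, hm, rfl⟩).symm, by rintro h _ ⟨m, hm, rfl⟩; exact (h m hm).symm⟩

theorem mem_OO {D : HSD P} {e : P → G} {g κ : G} :
    κ ∈ OO D e g ↔ κ ∈ KK D e ∧ g⁻¹ * κ * g ∈ KK D e := by
  simp [OO]

end Cfsg.Lib.HK
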